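import Cfsg.Agent.Lib.Classical.SteinbergGL.Moebius

/-!
# Alternating sums over chains of invariant subspaces
-/

set_option autoImplicit false
set_option linter.unusedSectionVars false
set_option linter.style.haveILetI false

open Module Polynomial Finset

namespace CfsgLib.Classical.StGL

variable {F : Type*} [Field F] {V : Type*} [AddCommGroup V] [Module F V]
variable {A : Module.End F V} [Finite (Submodule F V)]

/-- The chains of stable subspaces strictly between zero and `W`. -/
noncomputable def chains (A : Module.End F V) (W : Submodule F V) : Finset (Finset (Submodule F V)) :=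
  haveI := Fintype.ofFinite (Submodule F V)
  (Set.toFinite {C : Finset (Submodule F V) | IsChain (· ≤ ·) (C : Set (Submodule F V)) ∧
    ∀ M ∈ C, Stable A M ∧ M ≠ ⊥ ∧ M < W}).toFinset

theorem mem_chains {W : Submodule F V} {C : Finset (Submodule F V)} :
    C ∈ chains A W ↔ IsChain (· ≤ ·) (C : Set (Submodule F V)) ∧ ∀ M ∈ C, Stable A M ∧ M ≠ ⊥ ∧ M < W := by
  simp [chains]

/-- The alternating number of chains. -/
noncomputable def chainSum (A : Module.End F V) (W : Submodule F V) : ℚ :=
  ∑ C ∈ chains A W, (-1 : ℚ) ^ C.card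

/-- The stable subspaces strictly between zero and `W`. -/
noncomputable def middle (A : Module.End F V) (W : Submodule F V) : Finset (Submodule F V) :=
  (Set.toFinite {M : Submodule F V | Stable A M ∧ M ≠ ⊥ ∧ M < W}).toFinset

theorem mem_middle {W M : Submodule F V} : M ∈ middle A W ↔ Stable A M ∧ M ≠ ⊥ ∧ M < W := by
  simp [middle]

theorem chainSum_rec (W : Submodule F V) : chainSum A W = 1 - ∑ M ∈ middle A W, chainSum A M := by
  classical
  have hempty : (∅ : Finset (Submodule F V)) ∈ chains A W := mem_chains.2 ⟨by simp, by simp⟩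
  rw [chainSum, ← Finset.add_sum_erase _ _ hempty, Finset.card_empty, pow_zero, sub_eq_add_neg]
  congr 1
  simp only [chainSum]
  rw [← Finset.sum_neg_distrib]
  simp only [← Finset.sum_neg_distrib]
  rw [Finset.sum_sigma']
  symm
  refine Finset.sum_bij (fun x _ => insert x.1 x.2) ?_ ?_ ?_ ?_
  · rintro ⟨M, C⟩ h
    obtain ⟨hM, hC⟩ := Finset.mem_sigma.1 h
    obtain ⟨hs, hne, hlt⟩ := mem_middle.1 hM
    obtain ⟨hch, hall⟩ := mem_chains.1 hC
    refine Finset.mem_erase.2 ⟨Finset.insert_ne_empty _ _, mem_chains.2 ⟨?_, fun N hN => ?_⟩⟩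
    · rw [Finset.coe_insert]
      exact hch.insert fun N hN _ => Or.inr (hall N hN).2.2.le
    · rcases Finset.mem_insert.1 hN with rfl | hN
      · exact ⟨hs, hne, hlt⟩
      · exact ⟨(hall N hN).1, (hall N hN).2.1, (hall N hN).2.2.trans hlt⟩
  · rintro ⟨M, C⟩ h ⟨M', C'⟩ h' he
    have hC := mem_chains.1 (Finset.mem_sigma.1 h).2
    have hC' := mem_chains.1 (Finset.mem_sigma.1 h').2
    simp only at he
    have hle : ∀ (X : Submodule F V) (D : Finset (Submodule F V)), (∀ N ∈ D, Stable A N ∧ N ≠ ⊥ ∧ N < X) →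
        ∀ N ∈ insert X D, N ≤ X := by
      intro X D hD N hN
      rcases Finset.mem_insert.1 hN with rfl | hN
      · exact le_rfl
      · exact (hD N hN).2.2.le
    have e : M = M' := le_antisymm (hle M' C' hC'.2 M (he ▸ Finset.mem_insert_self _ _))
      (hle M C hC.2 M' (he ▸ Finset.mem_insert_self _ _))
    subst e
    have n1 : M ∉ C := fun hm => lt_irrefl _ (hC.2 M hm).2.2
    have n2 : M ∉ C' := fun hm => lt_irrefl _ (hC'.2 M hm).2.2
    rw [← Finset.erase_insert n1, he, Finset.erase_insert n2]
  · intro C hC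
    obtain ⟨hne, hC⟩ := Finset.mem_erase.1 hC
    obtain ⟨hch, hall⟩ := mem_chains.1 hC
    obtain ⟨M, hM, hmax⟩ := C.exists_maximal (Finset.nonempty_iff_ne_empty.2 hne)
    have htop : ∀ N ∈ C, N ≤ M := fun N hN => by
      rcases eq_or_ne N M with rfl | hNM
      · exact le_rfl
      · rcases hch hN hM hNM with h | h
        · exact h
        · exact hmax hN h
    refine ⟨⟨M, C.erase M⟩, Finset.mem_sigma.2 ⟨mem_middle.2 (hall M hM), mem_chains.2 ⟨?_, fun N hN => ?_⟩⟩,
      Finset.insert_erase hM⟩
    · exact hch.mono (by simp [Finset.coe_erase])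
    · obtain ⟨h1, h2⟩ := Finset.mem_erase.1 hN
      exact ⟨(hall N h2).1, (hall N h2).2.1, lt_of_le_of_ne (htop N h2) h1⟩
  · rintro ⟨M, C⟩ h
    have n1 : M ∉ C := fun hm => lt_irrefl _ ((mem_chains.1 (Finset.mem_sigma.1 h).2).2 M hm).2.2
    rw [Finset.card_insert_of_notMem n1, pow_succ, mul_neg_one]

variable [Fintype F] [FiniteDimensional F V] {S : Finset F[X]}

theorem chainSum_eq (hS : ∀ f ∈ S, Irreducible f ∧ f.Monic) (hann : Polynomial.aeval A (∏ f ∈ S, f) = 0)
    (W : Submodule F V) (hW : Stable A W) (hne : W ≠ ⊥) : chainSum A W = - wgt A S W := by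
  classical
  haveI := Fintype.ofFinite (Submodule F V)
  induction W using WellFoundedLT.induction with
  | ind W ih =>
    have hb : wgt A S (⊥ : Submodule F V) = 1 := by
      refine Finset.prod_eq_one fun f _ => ?_
      rw [bot_inf_eq, finrank_bot, Nat.zero_div]
      simp [SpUniCount.weight]
    have hsum := sum_wgt_eq_zero hS hann hW hne
    have hset : Finset.univ.filter (fun M : Submodule F V => Stable A M ∧ M ≤ W) =
        insert W (insert ⊥ (middle A W)) := by
      ext M
      simp only [Finset.mem_filter, Finset.mem_univ, true_and, Finset.mem_insert, mem_middle]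
      constructor
      · rintro ⟨h1, h2⟩
        by_cases e1 : M = W
        · exact Or.inl e1
        by_cases e2 : M = ⊥
        · exact Or.inr (Or.inl e2)
        exact Or.inr (Or.inr ⟨h1, e2, lt_of_le_of_ne h2 e1⟩)
      · rintro (rfl | rfl | ⟨h1, -, h3⟩)
        · exact ⟨hW, le_rfl⟩
        · exact ⟨stable_bot, bot_le⟩
        · exact ⟨h1, h3.le⟩
    rw [hset, Finset.sum_insert (by simp [mem_middle, hne]), Finset.sum_insert (by simp [mem_middle]), hb] at hsum
    rw [chainSum_rec, Finset.sum_congr rfl (fun M hM => ih M (mem_middle.1 hM).2.2 (mem_middle.1 hM).1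
      (mem_middle.1 hM).2.1), Finset.sum_neg_distrib]
    linear_combination hsum

end CfsgLib.Classical.StGL
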