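import Cfsg.Agent.Lib.Classical.SteinbergGL.Chains
import Cfsg.Prelude.Def_LinearParabolics

/-!
# Fixed points on cosets of parabolic subgroups are invariant flags
-/

set_option autoImplicit false
set_option linter.unusedSectionVars false
set_option linter.style.haveILetI false

open Module Finset Matrix

namespace CfsgLib.Classical.StGL

variable {F : Type*} [Field F] {n : ℕ}

variable (F n) in
/-- The span of the first `c` standard vectors. -/
def stdSub (c : ℕ) : Submodule F (Fin n → F) where
  carrier := {v | ∀ i : Fin n, c ≤ i.val → v i = 0}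
  add_mem' := fun {a b} ha hb i hi => by simp [ha i hi, hb i hi]
  zero_mem' := fun i _ => rfl
  smul_mem' := fun t v hv i hi => by simp [hv i hi]

theorem finrank_stdSub {c : ℕ} (hc : c ≤ n) : finrank F (stdSub F n c) = c := by
  let e : stdSub F n c ≃ₗ[F] (Fin c → F) :=
    { toFun := fun v i => v.1 (Fin.castLE hc i)
      map_add' := fun _ _ => rfl
      map_smul' := fun _ _ => rfl
      invFun := fun w => ⟨fun i => if h : i.val < c then w ⟨i, h⟩ else 0, fun i hi => dif_neg (by omega)⟩
      left_inv := fun v => Subtype.ext (funext fun i => by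
        by_cases h : i.val < c
        · exact dif_pos h
        · exact (dif_neg h).trans (v.2 i (by omega)).symm)
      right_inv := fun w => funext fun i => dif_pos i.isLt }
  rw [e.finrank_eq, finrank_fin_fun]

/-- The linear map of an invertible matrix. -/
noncomputable def lin (g : GL (Fin n) F) : (Fin n → F) →ₗ[F] (Fin n → F) :=
  Matrix.toLin' (g : Matrix (Fin n) (Fin n) F)

theorem lin_mul (g h : GL (Fin n) F) : lin (g * h) = (lin g) ∘ₗ (lin h) := Matrix.toLin'_mul _ _

theorem lin_one : lin (1 : GL (Fin n) F) = LinearMap.id := Matrix.toLin'_one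

theorem map_mul_eq (g h : GL (Fin n) F) (W : Submodule F (Fin n → F)) :
    W.map (lin (g * h)) = (W.map (lin h)).map (lin g) := by
  rw [lin_mul, Submodule.map_comp]

theorem lin_injective (g : GL (Fin n) F) : Function.Injective (lin g) := by
  intro u v h
  have hl : ∀ w : Fin n → F, lin g⁻¹ (lin g w) = w := fun w => by
    show (LinearMap.comp (lin g⁻¹) (lin g) : (Fin n → F) →ₗ[F] (Fin n → F)) w = w
    rw [← lin_mul, inv_mul_cancel, lin_one]
    rfl
  rw [← hl u, h, hl v]

theorem finrank_map (g : GL (Fin n) F) (W : Submodule F (Fin n → F)) : finrank F (W.map (lin g)) = finrank F W :=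
  (Submodule.equivMapOfInjective _ (lin_injective g) W).finrank_eq.symm

theorem map_stdSub_le_iff (g : GL (Fin n) F) (c : ℕ) :
    (stdSub F n c).map (lin g) ≤ stdSub F n c ↔
      ∀ i j : Fin n, j.val < c → c ≤ i.val → (g : Matrix (Fin n) (Fin n) F) i j = 0 := by
  constructor
  · intro h i j hj hi
    have := h (Submodule.mem_map_of_mem (f := lin g) (show Pi.single j (1 : F) ∈ stdSub F n c from fun k hk =>
      Pi.single_eq_of_ne (by rintro rfl; omega) _)) i hi
    simpa [lin, Matrix.toLin'_apply] using this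
  · intro h w hw
    obtain ⟨v, hv, rfl⟩ := Submodule.mem_map.1 hw
    intro i hi
    show ∑ j : Fin n, (g : Matrix (Fin n) (Fin n) F) i j * v j = (0 : F)
    refine Finset.sum_eq_zero fun j _ => ?_
    by_cases hj : j.val < c
    · show (g : Matrix (Fin n) (Fin n) F) i j * v j = 0
      rw [h i j hj hi, zero_mul]
    · show (g : Matrix (Fin n) (Fin n) F) i j * v j = 0
      rw [hv j (by omega), mul_zero]

theorem exists_adapted {J : Finset ℕ} (W : ℕ → Submodule F (Fin n → F))
    (hd : ∀ c ∈ J, finrank F (W c) = c) (hm : ∀ c ∈ J, ∀ c' ∈ J, c ≤ c' → W c ≤ W c') :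
    ∀ m, m ≤ n → ∃ v : Fin m → (Fin n → F), LinearIndependent F v ∧
      ∀ c ∈ J, ∀ j : Fin m, j.val < c → v j ∈ W c := by
  intro m
  induction m with
  | zero => exact fun _ => ⟨Fin.elim0, linearIndependent_empty_type, fun _ _ j => j.elim0⟩
  | succ m ih =>
    intro hmn
    obtain ⟨v, hv, hvW⟩ := ih (by omega)
    set T := J.filter (fun c => m < c)
    obtain ⟨U, hU, hUT⟩ : ∃ U : Submodule F (Fin n → F), m < finrank F U ∧ ∀ c ∈ T, U ≤ W c := by
      by_cases hT : T.Nonempty
      · obtain ⟨h1, h2⟩ := Finset.mem_filter.1 (T.min'_mem hT)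
        exact ⟨W (T.min' hT), by rw [hd _ h1]; exact h2,
          fun c hc => hm _ h1 c (Finset.mem_filter.1 hc).1 (T.min'_le c hc)⟩
      · exact ⟨⊤, by rw [finrank_top, finrank_fin_fun]; omega, fun c hc => absurd ⟨c, hc⟩ hT⟩
    obtain ⟨w, hwU, hw⟩ := SetLike.not_le_iff_exists.1 (show ¬ U ≤ Submodule.span F (Set.range v) from fun hle => by
      have := Submodule.finrank_mono hle
      rw [finrank_span_eq_card hv, Fintype.card_fin] at this
      omega)
    refine ⟨Fin.snoc v w, linearIndependent_finSnoc.2 ⟨hv, hw⟩, fun c hc j hj => ?_⟩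
    induction j using Fin.lastCases with
    | last => rw [Fin.snoc_last]; exact hUT c (Finset.mem_filter.2 ⟨hc, hj⟩) hwU
    | cast i => rw [Fin.snoc_castSucc]; exact hvW c hc i hj

variable [Fintype F]

noncomputable instance : Finite (Submodule F (Fin n → F)) :=
  Finite.of_injective (SetLike.coe : Submodule F (Fin n → F) → Set (Fin n → F)) SetLike.coe_injective

/-- The fixed points on the cosets of the stabilizer of a standard flag. -/
theorem card_fixed [DecidableEq (Submodule F (Fin n → F))] {J : Finset ℕ} (hJ : J ⊆ Ioo 0 n)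
    (H : Subgroup (GL (Fin n) F))
    (hH : ∀ g, g ∈ H ↔ ∀ c ∈ J, (stdSub F n c).map (lin g) ≤ stdSub F n c) (x : GL (Fin n) F) :
    Nat.card (MulAction.fixedBy (GL (Fin n) F ⧸ H) x) =
      ((chains (lin x) ⊤).filter (fun C => C.image (fun W : Submodule F (Fin n → F) => finrank F W) = J)).card := by
  classical
  have hcn : ∀ c ∈ J, 0 < c ∧ c < n := fun c hc => Finset.mem_Ioo.1 (hJ hc)
  let Φ : GL (Fin n) F → Finset (Submodule F (Fin n → F)) := fun g =>
    J.image fun c => (stdSub F n c).map (lin g)
  have hdim : ∀ g, ∀ c ∈ J, finrank F ((stdSub F n c).map (lin g)) = c := fun g c hc => by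
    rw [finrank_map, finrank_stdSub (hcn c hc).2.le]
  have hHeq : ∀ g, g ∈ H ↔ ∀ c ∈ J, (stdSub F n c).map (lin g) = stdSub F n c := fun g => by
    rw [hH]
    refine forall_congr' fun c => forall_congr' fun hc => ⟨fun h => ?_, le_of_eq⟩
    exact Submodule.eq_of_le_of_finrank_eq h (finrank_map g _)
  have hmapinj : ∀ g : GL (Fin n) F, Function.Injective (fun W : Submodule F (Fin n → F) => W.map (lin g)) :=
    fun g => Submodule.map_injective_of_injective (lin_injective g)
  have hΦ : ∀ g h, Φ g = Φ h ↔ g⁻¹ * h ∈ H := by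
    intro g h
    rw [hHeq]
    constructor
    · intro e c hc
      obtain ⟨c', hc', he⟩ := Finset.mem_image.1 (show (stdSub F n c).map (lin h) ∈ Φ g by
        rw [e]; exact Finset.mem_image_of_mem _ hc)
      have : c' = c := by rw [← hdim g c' hc', he, hdim h c hc]
      subst this
      apply hmapinj g
      show ((stdSub F n c').map (lin (g⁻¹ * h))).map (lin g) = (stdSub F n c').map (lin g)
      rw [← map_mul_eq, mul_inv_cancel_left, he]
    · intro e
      refine Finset.image_congr fun c hc => ?_
      show (stdSub F n c).map (lin g) = (stdSub F n c).map (lin h)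
      conv_rhs => rw [← mul_inv_cancel_left g h, map_mul_eq, e c hc]
  let Ψ : GL (Fin n) F ⧸ H → Finset (Submodule F (Fin n → F)) := Quotient.lift Φ fun g h hgh =>
    (hΦ g h).2 (QuotientGroup.leftRel_apply.1 hgh)
  have hfix : ∀ g : GL (Fin n) F, x • ((g : GL (Fin n) F ⧸ H)) = (g : GL (Fin n) F ⧸ H) ↔
      ∀ W ∈ Φ g, Stable (lin x) W := by
    intro g
    rw [MulAction.Quotient.smul_coe, eq_comm, QuotientGroup.eq, smul_eq_mul, hH, Finset.forall_mem_image]
    refine forall_congr' fun c => forall_congr' fun hc => ?_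
    constructor
    · intro h w hw
      obtain ⟨v, hv, rfl⟩ := hw
      obtain ⟨u, hu⟩ : ∃ u, u = lin (g⁻¹ * (x * g)) v := ⟨_, rfl⟩
      refine ⟨u, h ⟨v, hv, hu.symm⟩, ?_⟩
      rw [hu, ← LinearMap.comp_apply, ← lin_mul, mul_inv_cancel_left, lin_mul, LinearMap.comp_apply]
    · rintro h _ ⟨v, hv, rfl⟩
      obtain ⟨u, hu, he⟩ := h _ (Submodule.mem_map_of_mem (f := lin g) hv)
      rw [lin_mul, lin_mul, LinearMap.comp_apply, LinearMap.comp_apply, ← he, ← LinearMap.comp_apply,
        ← lin_mul, inv_mul_cancel, lin_one]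
      exact hu
  rw [← Nat.card_eq_finsetCard]
  refine Nat.card_congr (Equiv.ofBijective (fun z => ⟨Ψ z.1, ?_⟩) ⟨?_, ?_⟩)
  · obtain ⟨z, hz⟩ := z
    induction z using QuotientGroup.induction_on with
    | H g =>
      have hst := (hfix g).1 hz
      show Φ g ∈ _
      refine Finset.mem_filter.2 ⟨mem_chains.2 ⟨?_, fun M hM => ⟨hst M hM, ?_⟩⟩, ?_⟩
      · intro M hM M' hM' _
        obtain ⟨c, hc, rfl⟩ := Finset.mem_image.1 hM
        obtain ⟨c', hc', rfl⟩ := Finset.mem_image.1 hM'
        rcases le_total c c' with h | h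
        · exact Or.inl (Submodule.map_mono fun v hv i hi => hv i (h.trans hi))
        · exact Or.inr (Submodule.map_mono fun v hv i hi => hv i (h.trans hi))
      · obtain ⟨c, hc, rfl⟩ := Finset.mem_image.1 hM
        have h1 := hdim g c hc
        refine ⟨fun e => ?_, lt_top_iff_ne_top.2 fun e => ?_⟩
        · rw [e, finrank_bot] at h1; have := (hcn c hc).1; omega
        · rw [e, finrank_top, finrank_fin_fun] at h1; have := (hcn c hc).2; omega
      · rw [Finset.image_image]
        conv_rhs => rw [← Finset.image_id (s := J)]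
        exact Finset.image_congr fun c hc => hdim g c hc
  · rintro ⟨z, hz⟩ ⟨z', hz'⟩ he
    induction z using QuotientGroup.induction_on with
    | H g =>
      induction z' using QuotientGroup.induction_on with
      | H g' => exact Subtype.ext (QuotientGroup.eq.2 ((hΦ g g').1 (congrArg Subtype.val he)))
  · rintro ⟨C, hC⟩
    obtain ⟨hch, himg⟩ := Finset.mem_filter.1 hC
    obtain ⟨hchain, hall⟩ := mem_chains.1 hch
    have hex : ∀ c ∈ J, ∃ W ∈ C, finrank F W = c := fun c hc => Finset.mem_image.1 (himg.symm ▸ hc)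
    choose! W hWC hWd using hex
    have hWm : ∀ c ∈ J, ∀ c' ∈ J, c ≤ c' → W c ≤ W c' := by
      intro c hc c' hc' hle
      rcases eq_or_ne (W c) (W c') with e | e
      · exact e.le
      rcases hchain (hWC c hc) (hWC c' hc') e with h | h
      · exact h
      · exact (Submodule.eq_of_le_of_finrank_eq h (le_antisymm (Submodule.finrank_mono h)
          (by rw [hWd c hc, hWd c' hc']; exact hle))).symm.le
    obtain ⟨v, hv, hvW⟩ := exists_adapted W hWd hWm n le_rfl
    set M : Matrix (Fin n) (Fin n) F := Matrix.of fun i j => v j i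
    have hMu : IsUnit M := Matrix.linearIndependent_cols_iff_isUnit.1 hv
    set g : GL (Fin n) F := hMu.unit
    have hg : ∀ c ∈ J, (stdSub F n c).map (lin g) = W c := by
      intro c hc
      refine Submodule.eq_of_le_of_finrank_eq ?_ (by rw [hdim g c hc, hWd c hc])
      rintro _ ⟨u, hu, rfl⟩
      have : lin g u = ∑ j, u j • v j := by
        funext i
        show Matrix.mulVec M u i = _
        simp [Matrix.mulVec, dotProduct, M, mul_comm, Finset.sum_apply]
      rw [this]
      refine Submodule.sum_mem _ fun j _ => ?_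
      by_cases hj : j.val < c
      · exact Submodule.smul_mem _ _ (hvW c hc j hj)
      · rw [hu j (by omega), zero_smul]; exact Submodule.zero_mem _
    have hΦg : Φ g = C := by
      apply Finset.Subset.antisymm
      · intro M' hM'
        obtain ⟨c, hc, rfl⟩ := Finset.mem_image.1 hM'
        rw [hg c hc]; exact hWC c hc
      · intro M' hM'
        have hc : finrank F M' ∈ J := himg ▸ Finset.mem_image_of_mem (fun W : Submodule F (Fin n → F) => finrank F W) hM'
        refine Finset.mem_image.2 ⟨_, hc, ?_⟩
        rw [hg _ hc]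
        rcases eq_or_ne (W (finrank F M')) M' with e | e
        · exact e
        rcases hchain (hWC _ hc) hM' e with h | h
        · exact Submodule.eq_of_le_of_finrank_eq h (hWd _ hc)
        · exact (Submodule.eq_of_le_of_finrank_eq h (hWd _ hc).symm).symm
    exact ⟨⟨(g : GL (Fin n) F ⧸ H), (hfix g).2 fun W' hW' => (hall W' (hΦg ▸ hW')).1⟩, Subtype.ext hΦg⟩

end CfsgLib.Classical.StGL
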