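import Cfsg.Prelude.Def_LinearParabolics
import Mathlib

/-!
# Permutations with `κ i ≤ i + 1` and sets of cuts
-/

set_option autoImplicit false
set_option linter.unusedSectionVars false

open Finset

namespace CfsgLib.Classical.StGL

variable {n : ℕ}

/-- The permutations in the sum defining the Steinberg character. -/
def Hess (κ : Equiv.Perm (Fin n)) : Prop := ∀ i : Fin n, (κ i).val ≤ 1 + i.val

/-- The cuts of a Hessenberg permutation. -/
def cuts (κ : Equiv.Perm (Fin n)) : Finset ℕ :=
  (univ.filter fun k : Fin n => k.val + 1 < n ∧ (κ k).val ≠ k.val + 1).image fun k => k.val + 1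

theorem mem_cuts {κ : Equiv.Perm (Fin n)} {c : ℕ} :
    c ∈ cuts κ ↔ ∃ k : Fin n, k.val + 1 = c ∧ c < n ∧ (κ k).val ≠ c := by
  simp only [cuts, mem_image, mem_filter, mem_univ, true_and]
  constructor
  · rintro ⟨k, ⟨h1, h2⟩, rfl⟩
    exact ⟨k, rfl, h1, h2⟩
  · rintro ⟨k, rfl, h1, h2⟩
    exact ⟨k, ⟨h1, h2⟩, rfl⟩

theorem cuts_subset (κ : Equiv.Perm (Fin n)) : cuts κ ⊆ Ioo 0 n := fun c hc => by
  obtain ⟨k, rfl, h, -⟩ := mem_cuts.1 hc
  exact mem_Ioo.2 ⟨Nat.succ_pos _, h⟩

theorem image_eq {κ : Equiv.Perm (Fin n)} (hκ : Hess κ) {k : Fin n} (hk : (κ k).val ≤ k.val) :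
    (Iic k).image κ = Iic k := by
  refine eq_of_subset_of_card_le (fun a ha => ?_) (by rw [card_image_of_injective _ κ.injective])
  obtain ⟨l, hl, rfl⟩ := mem_image.1 ha
  rw [mem_Iic, Fin.le_def] at hl ⊢
  rcases eq_or_lt_of_le hl with h | h
  · rw [Fin.ext h]; exact hk
  · have := hκ l; omega

/-- The partial sums of the composition. -/
def psum (κ : Equiv.Perm (Fin n)) (k : Fin n) : ℕ :=
  ∑ l ∈ univ.filter (fun l : Fin n => l ≤ k), (1 + l.val - (κ l).val)

theorem psum_eq {κ : Equiv.Perm (Fin n)} (hκ : Hess κ) {k : Fin n} (hk : (κ k).val ≤ k.val) :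
    psum κ k = k.val + 1 := by
  have hs : univ.filter (fun l : Fin n => l ≤ k) = Iic k := by ext; simp
  have h1 : ∑ l ∈ Iic k, (1 + l.val - (κ l).val) + ∑ l ∈ Iic k, (κ l).val = ∑ l ∈ Iic k, (1 + l.val) := by
    rw [← sum_add_distrib]
    exact sum_congr rfl fun l _ => Nat.sub_add_cancel (hκ l)
  have h2 : ∑ l ∈ Iic k, (κ l).val = ∑ l ∈ Iic k, l.val := by
    conv_rhs => rw [← image_eq hκ hk]
    rw [sum_image (κ.injective.injOn)]
  rw [sum_add_distrib, sum_const, h2, Fin.card_Iic, smul_eq_mul, mul_one] at h1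
  rw [psum, hs]
  omega

theorem psum_cases {κ : Equiv.Perm (Fin n)} (hκ : Hess κ) :
    ∀ (m : ℕ) (k : Fin n), k.val = m → psum κ k = 0 ∨
      ∃ l : Fin n, l.val + 1 = psum κ k ∧ (κ l).val ≠ l.val + 1 := by
  intro m
  induction m with
  | zero =>
    intro k hk
    by_cases h : (κ k).val ≤ k.val
    · exact Or.inr ⟨k, (psum_eq hκ h).symm, by omega⟩
    · left
      have hs : (Finset.univ : Finset (Fin n)).filter (fun l : Fin n => l ≤ k) = ({k} : Finset (Fin n)) := by
        ext l
        simp only [Finset.mem_filter, Finset.mem_univ, true_and, Finset.mem_singleton, Fin.le_def, Fin.ext_iff]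
        omega
      rw [psum, hs, sum_singleton]
      omega
  | succ m ih =>
    intro k hk
    by_cases h : (κ k).val ≤ k.val
    · exact Or.inr ⟨k, (psum_eq hκ h).symm, by omega⟩
    · have hk' : m < n := by have := k.isLt; omega
      have hs : (Finset.univ : Finset (Fin n)).filter (fun l : Fin n => l ≤ k) =
          insert k ((Finset.univ : Finset (Fin n)).filter fun l : Fin n => l ≤ ⟨m, hk'⟩) := by
        ext l
        simp only [Finset.mem_filter, Finset.mem_univ, true_and, Finset.mem_insert, Fin.le_def, Fin.ext_iff]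
        omega
      have : psum κ k = psum κ ⟨m, hk'⟩ := by
        rw [psum, hs, sum_insert (by simp [Fin.le_def]; omega), show 1 + k.val - (κ k).val = 0 by omega, zero_add]
        rfl
      rw [this]
      exact ih _ rfl

theorem label_lt_iff {κ : Equiv.Perm (Fin n)} (hκ : Hess κ) (i j : Fin n) :
    Cfsg.compLabel (fun i : Fin n => 1 + i.val - (κ i).val) j <
        Cfsg.compLabel (fun i : Fin n => 1 + i.val - (κ i).val) i ↔
      ∃ c ∈ cuts κ, j.val < c ∧ c ≤ i.val := by
  unfold Cfsg.compLabel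
  constructor
  · intro h
    obtain ⟨k, hk1, hk2⟩ := Finset.not_subset.1 fun hsub => not_le.2 h (card_le_card hsub)
    simp only [mem_filter, mem_univ, true_and, not_le] at hk1 hk2
    rcases psum_cases hκ k.val k rfl with h0 | ⟨l, hl, hl'⟩
    · rw [psum] at h0; omega
    · rw [psum] at hl
      refine ⟨l.val + 1, mem_cuts.2 ⟨l, rfl, ?_, hl'⟩, by omega, by omega⟩
      have := i.isLt
      omega
  · rintro ⟨c, hc, hjc, hci⟩
    obtain ⟨k, rfl, -, hk⟩ := mem_cuts.1 hc
    have hk' : (κ k).val ≤ k.val := by have := hκ k; omega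
    refine card_lt_card ((ssubset_iff_of_subset (fun l hl => ?_)).2 ⟨k, ?_, ?_⟩)
    · simp only [mem_filter, mem_univ, true_and] at hl ⊢
      omega
    · simp only [mem_filter, mem_univ, true_and]
      rw [← psum, psum_eq hκ hk']
      exact hci
    · simp only [mem_filter, mem_univ, true_and, not_le]
      rw [← psum, psum_eq hκ hk']
      exact hjc

theorem cuts_injective {κ κ' : Equiv.Perm (Fin n)} (hκ : Hess κ) (hκ' : Hess κ') (h : cuts κ = cuts κ') :
    κ = κ' := by
  suffices ∀ (m : ℕ) (k : Fin n), k.val = m → κ k = κ' k from Equiv.ext fun k => this k.val k rfl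
  intro m
  induction m using Nat.strong_induction_on with
  | _ m ih =>
    intro k hk
    have hiff : (κ k).val = k.val + 1 ↔ (κ' k).val = k.val + 1 := by
      by_cases hn : k.val + 1 < n
      · have e := congrArg (fun s : Finset ℕ => k.val + 1 ∈ s) h
        simp only [eq_iff_iff, mem_cuts] at e
        constructor
        · intro hv
          by_contra hv'
          obtain ⟨l, hl, -, hl'⟩ := e.2 ⟨k, rfl, hn, hv'⟩
          exact hl' (by rw [show l = k from Fin.ext (by omega)]; exact hv)
        · intro hv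
          by_contra hv'
          obtain ⟨l, hl, -, hl'⟩ := e.1 ⟨k, rfl, hn, hv'⟩
          exact hl' (by rw [show l = k from Fin.ext (by omega)]; exact hv)
      · have := (κ k).isLt
        have := (κ' k).isLt
        constructor <;> intro <;> omega
    by_cases hv : (κ k).val = k.val + 1
    · exact Fin.ext (hv.trans (hiff.1 hv).symm)
    · have h1 : (κ k).val ≤ k.val := by have := hκ k; omega
      have h2 : (κ' k).val ≤ k.val := by
        have := hκ' k
        have : ¬ (κ' k).val = k.val + 1 := fun e => hv (hiff.2 e)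
        omega
      obtain ⟨l, hl, he⟩ := mem_image.1 ((image_eq hκ h1).symm ▸ (mem_Iic.2 (Fin.le_def.2 h2) : κ' k ∈ Iic k))
      rcases eq_or_lt_of_le (mem_Iic.1 hl) with rfl | hlt
      · exact he
      · exfalso
        rw [ih l.val (hk ▸ hlt) l rfl] at he
        exact hlt.ne (κ'.injective he)

theorem exists_perm (J : Finset ℕ) : ∀ m : ℕ, (hm : m < n) →
    ∃ κ : Equiv.Perm (Fin n), (∀ i : Fin n, m < i.val → κ i = i) ∧ (κ ⟨m, hm⟩).val ≤ m ∧
      (∀ i : Fin n, i.val < m → if i.val + 1 ∈ J then (κ i).val ≤ i.val else (κ i).val = i.val + 1) ∧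
      ((Equiv.Perm.sign κ : ℤ)) = (-1) ^ ((Ioc 0 m) \ J).card := by
  intro m
  induction m with
  | zero => exact fun hm => ⟨1, fun i _ => rfl, le_rfl, fun i hi => absurd hi (Nat.not_lt_zero _), by simp⟩
  | succ m ih =>
    intro hm
    obtain ⟨κ, hfix, hlast, hbody, hsign⟩ := ih (by omega)
    have hIoc : Ioc 0 (m + 1) = insert (m + 1) (Ioc 0 m) := by ext c; simp; omega
    by_cases hJ : m + 1 ∈ J
    · refine ⟨κ, fun i hi => hfix i (by omega), (congrArg Fin.val (hfix ⟨m + 1, hm⟩ (by simp))).le,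
        fun i hi => ?_, ?_⟩
      · rcases Nat.lt_succ_iff_lt_or_eq.1 hi with h | h
        · exact hbody i h
        · rw [if_pos (h ▸ hJ), h, show i = ⟨m, by omega⟩ from Fin.ext h]
          exact hlast
      · rw [hsign, hIoc, insert_sdiff_of_mem _ hJ]
    · set a : Fin n := ⟨m, by omega⟩
      set b : Fin n := ⟨m + 1, hm⟩
      have hab : a ≠ b := by simp [a, b, Fin.ext_iff]
      refine ⟨κ * Equiv.swap a b, fun i hi => ?_, ?_, fun i hi => ?_, ?_⟩
      · rw [Equiv.Perm.mul_apply, Equiv.swap_apply_of_ne_of_ne (by rintro rfl; simp [a] at hi)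
          (by rintro rfl; simp [b] at hi), hfix i (by omega)]
      · rw [Equiv.Perm.mul_apply, Equiv.swap_apply_right]
        exact hlast.trans (Nat.le_succ m)
      · rw [Equiv.Perm.mul_apply]
        rcases Nat.lt_succ_iff_lt_or_eq.1 hi with h | h
        · rw [Equiv.swap_apply_of_ne_of_ne (by rintro rfl; simp [a] at h) (by rintro rfl; simp [b] at h)]
          exact hbody i h
        · rw [show i = a from Fin.ext h, Equiv.swap_apply_left, hfix b (by simp [b]), if_neg hJ]
      · rw [map_mul, Units.val_mul, hsign, Equiv.Perm.sign_swap hab, hIoc, insert_sdiff_of_notMem _ hJ,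
          card_insert_of_notMem (by simp), pow_succ]
        rfl

/-- Every set of cuts is realized. -/
theorem exists_hess (hn : 0 < n) {J : Finset ℕ} (hJ : J ⊆ Ioo 0 n) :
    ∃ κ : Equiv.Perm (Fin n), Hess κ ∧ cuts κ = J ∧
      ((Equiv.Perm.sign κ : ℤ)) = (-1) ^ (n - 1 - J.card) := by
  obtain ⟨κ, -, hlast, hbody, hsign⟩ := exists_perm J (n - 1) (Nat.sub_lt hn one_pos)
  have hcase : ∀ i : Fin n, i.val < n - 1 ∨ i = ⟨n - 1, Nat.sub_lt hn one_pos⟩ := fun i => by
    have := i.isLt
    rcases Nat.lt_or_ge i.val (n - 1) with h | h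
    · exact Or.inl h
    · exact Or.inr (Fin.ext (show i.val = n - 1 by omega))
  refine ⟨κ, fun i => ?_, ?_, ?_⟩
  · rcases hcase i with h | h
    · have := hbody i h
      split_ifs at this <;> omega
    · rw [h]; exact hlast.trans (Nat.le_add_left _ _)
  · ext c
    rw [mem_cuts]
    constructor
    · rintro ⟨k, rfl, hk, hv⟩
      have := hbody k (by omega)
      split_ifs at this with h
      · exact h
      · exact absurd this hv
    · intro hc
      have hc' := mem_Ioo.1 (hJ hc)
      refine ⟨⟨c - 1, by omega⟩, by simp; omega, hc'.2, ?_⟩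
      have := hbody ⟨c - 1, by omega⟩ (by simp; omega)
      rw [show c - 1 + 1 = c by omega, if_pos hc] at this
      simp at this
      omega
  · rw [hsign]
    congr 1
    have : Ioc 0 (n - 1) = Ioo 0 n := by ext c; simp; omega
    rw [this, card_sdiff_of_subset hJ, Nat.card_Ioo]
    omega

end CfsgLib.Classical.StGL
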