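import Cfsg.Agent.Lib.Classical.SteinbergGL.Flags
import Cfsg.Agent.Lib.Classical.SteinbergGL.Hessenberg

/-!
# The values of the Steinberg character of `GL_n` on semisimple elements
-/

set_option autoImplicit false
set_option linter.unusedSectionVars false
set_option linter.style.haveILetI false

open Module Polynomial UniqueFactorizationMonoid Finset
open scoped Matrix

namespace CfsgLib.Classical.StGL

variable {F : Type*} [Field F] [Fintype F] {n : ℕ}

/-- The number of invariant flags of a given type. -/
noncomputable def flagCount [DecidableEq (Submodule F (Fin n → F))] (A : Module.End F (Fin n → F))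
    (J : Finset ℕ) : ℕ :=
  ((chains A ⊤).filter (fun C => C.image (fun W : Submodule F (Fin n → F) => finrank F W) = J)).card

theorem chainSum_top [DecidableEq (Submodule F (Fin n → F))] (A : Module.End F (Fin n → F)) :
    chainSum A (⊤ : Submodule F (Fin n → F)) =
      ∑ J ∈ (Finset.Ioo 0 n).powerset, (-1 : ℚ) ^ J.card * (flagCount A J : ℚ) := by
  have hmaps : ∀ C ∈ chains A (⊤ : Submodule F (Fin n → F)),
      C.image (fun W : Submodule F (Fin n → F) => finrank F W) ∈ (Finset.Ioo 0 n).powerset := by
    intro C hC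
    refine Finset.mem_powerset.2 fun c hc => ?_
    obtain ⟨W, hW, rfl⟩ := Finset.mem_image.1 hc
    obtain ⟨-, hne, hlt⟩ := (mem_chains.1 hC).2 W hW
    refine Finset.mem_Ioo.2 ⟨Nat.pos_of_ne_zero fun h => hne (Submodule.finrank_eq_zero.1 h), ?_⟩
    have h := Submodule.finrank_lt hlt.ne
    rwa [finrank_fin_fun] at h
  rw [chainSum, ← Finset.sum_fiberwise_of_maps_to hmaps]
  refine Finset.sum_congr rfl fun J _ => ?_
  rw [flagCount, mul_comm, ← nsmul_eq_mul, ← Finset.sum_const]
  refine Finset.sum_congr rfl fun C hC => ?_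
  obtain ⟨h1, h2⟩ := Finset.mem_filter.1 hC
  rw [← h2, Finset.card_image_of_injOn]
  intro W hW W' hW' he
  by_contra hne
  rcases (mem_chains.1 h1).1 hW hW' hne with h | h
  · exact hne (Submodule.eq_of_le_of_finrank_eq h he)
  · exact hne (Submodule.eq_of_le_of_finrank_eq h he.symm).symm

theorem character_eq (hn : 0 < n) (x : GL (Fin n) F) :
    Cfsg.unipotentCharacterGL n F (fun _ => 1) x =
      (((-1 : ℚ) ^ (n - 1) * chainSum (lin x) (⊤ : Submodule F (Fin n → F)) : ℚ) : ℂ) := by
  classical
  rw [chainSum_top, Finset.mul_sum, Rat.cast_sum, Cfsg.unipotentCharacterGL]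
  rw [← Finset.sum_filter]
  refine Finset.sum_bij (fun κ _ => cuts κ) ?_ ?_ ?_ ?_
  · exact fun κ _ => Finset.mem_powerset.2 (cuts_subset κ)
  · exact fun κ hκ κ' hκ' h => cuts_injective (Finset.mem_filter.1 hκ).2 (Finset.mem_filter.1 hκ').2 h
  · intro J hJ
    obtain ⟨κ, h1, h2, -⟩ := exists_hess hn (Finset.mem_powerset.1 hJ)
    exact ⟨κ, Finset.mem_filter.2 ⟨Finset.mem_univ _, h1⟩, h2⟩
  · intro κ hκ
    have hH : Hess κ := (Finset.mem_filter.1 hκ).2
    obtain ⟨κ', h1, h2, hs⟩ := exists_hess hn (cuts_subset κ)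
    obtain rfl := cuts_injective h1 hH h2
    have hcard : (cuts κ').card ≤ n - 1 := by
      have := Finset.card_le_card (cuts_subset κ')
      rw [Nat.card_Ioo] at this
      omega
    have hfix : Nat.card (MulAction.fixedBy
        (GL (Fin n) F ⧸ Cfsg.parabolicGL n F fun i : Fin n => 1 + i.val - (κ' i).val) x) =
          flagCount (lin x) (cuts κ') := by
      refine card_fixed (cuts_subset κ') _ (fun g => ?_) x
      simp only [map_stdSub_le_iff]
      constructor
      · intro h c hc i j hj hi
        exact h ((label_lt_iff hH i j).2 ⟨c, hc, hj, hi⟩)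
      · intro h i j hij
        obtain ⟨c, hc, hj, hi⟩ := (label_lt_iff hH i j).1 hij
        exact h c hc i j hj hi
    rw [Cfsg.fixedPointCharacter, hfix, hs]
    push_cast
    rw [← mul_assoc, ← pow_add]
    congr 1
    rw [show n - 1 + (cuts κ').card = n - 1 - (cuts κ').card + 2 * (cuts κ').card by omega, pow_add, pow_mul,
      neg_one_sq, one_pow, mul_one]

theorem character_value (p : ℕ) [Fact p.Prime] [CharP F p] [DecidableEq F] (x : GL (Fin n) F)
    (hx : (orderOf x).Coprime p) :
    Cfsg.unipotentCharacterGL n F (fun _ => 1) x =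
      ∏ f ∈ (normalizedFactors (x : Matrix (Fin n) (Fin n) F).charpoly).toFinset,
        (-1 : ℂ) ^ ((f.natDegree - 1) * (normalizedFactors (x : Matrix (Fin n) (Fin n) F).charpoly).count f) *
          (Fintype.card F : ℂ) ^ (f.natDegree * (normalizedFactors (x : Matrix (Fin n) (Fin n) F).charpoly).count f *
            ((normalizedFactors (x : Matrix (Fin n) (Fin n) F).charpoly).count f - 1) / 2) := by
  classical
  rcases Nat.eq_zero_or_pos n with rfl | hn
  · rw [Matrix.charpoly, Matrix.det_isEmpty, normalizedFactors_one, Multiset.toFinset_zero, Finset.prod_empty,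
      Cfsg.unipotentCharacterGL, Fintype.sum_unique, if_pos (fun i => i.elim0), Cfsg.fixedPointCharacter]
    have hsub : Subsingleton (GL (Fin 0) F) := ⟨fun a b => Units.ext (Matrix.ext fun i => i.elim0)⟩
    have huniv : ∀ z : GL (Fin 0) F ⧸ Cfsg.parabolicGL 0 F fun i : Fin 0 => (1 + i.val - ((default : Equiv.Perm (Fin 0)) i).val),
        x • z = z := fun z => by rw [Subsingleton.elim x 1, one_smul]
    haveI : Unique (MulAction.fixedBy
        (GL (Fin 0) F ⧸ Cfsg.parabolicGL 0 F fun i : Fin 0 => (1 + i.val - ((default : Equiv.Perm (Fin 0)) i).val)) x) :=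
      { default := ⟨((1 : GL (Fin 0) F) : _ ⧸ _), huniv _⟩
        uniq := fun z => by
          obtain ⟨z, hz⟩ := z
          induction z using QuotientGroup.induction_on with
          | H g => exact Subtype.ext (congrArg QuotientGroup.mk (Subsingleton.elim g 1)) }
    rw [Nat.card_unique, Subsingleton.elim (default : Equiv.Perm (Fin 0)) 1, map_one]
    simp
  set A : Module.End F (Fin n → F) := lin x with hA
  have ho : (orderOf x : F) ≠ 0 := by
    rw [Ne, CharP.cast_eq_zero_iff F p]
    exact (Fact.out : p.Prime).coprime_iff_not_dvd.1 hx.symm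
  set Φ : F[X] := X ^ orderOf x - C 1 with hΦ
  have hsep : Φ.Separable := separable_X_pow_sub_C 1 ho one_ne_zero
  have hΦ0 : Φ ≠ 0 := hsep.ne_zero
  set S := (normalizedFactors Φ).toFinset
  have hS : ∀ f ∈ S, Irreducible f ∧ f.Monic := fun f hf => by
    have h := Multiset.mem_toFinset.1 hf
    have hi := irreducible_of_normalized_factor _ h
    exact ⟨hi, by rw [← normalize_normalized_factor _ h]; exact Polynomial.monic_normalize hi.ne_zero⟩
  have hprod : (normalizedFactors Φ).prod = ∏ f ∈ S, f := by
    rw [Finset.prod_eq_multiset_prod, Multiset.map_id', Multiset.toFinset_val,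
      Multiset.dedup_eq_self.2 ((squarefree_iff_nodup_normalizedFactors hΦ0).1 hsep.squarefree)]
  have hann : Polynomial.aeval A (∏ f ∈ S, f) = 0 := by
    obtain ⟨u, hu⟩ := (prod_normalizedFactors hΦ0).symm
    rw [← hprod, ← hu, map_mul, hΦ, map_sub, map_pow, aeval_X, map_one, map_one]
    have hpow : A ^ orderOf x = 1 := by
      have h := congrArg (fun g : GL (Fin n) F => Matrix.toLinAlgEquiv' (g : Matrix (Fin n) (Fin n) F))
        (pow_orderOf_eq_one x)
      simp only [Units.val_pow_eq_pow_val, map_pow, Units.val_one, map_one] at h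
      exact h
    rw [hpow, sub_self, zero_mul]
  haveI := Fintype.ofFinite (Submodule F (Fin n → F))
  haveI : Nontrivial (Fin n → F) := Module.nontrivial_of_finrank_pos (R := F) (by rw [finrank_fin_fun]; exact hn)
  have hch : (x : Matrix (Fin n) (Fin n) F).charpoly = A.charpoly := (Matrix.charpoly_toLin' _).symm
  set m : F[X] → ℕ := fun f => (normalizedFactors (x : Matrix (Fin n) (Fin n) F).charpoly).count f with hm
  have hcount : ∀ f ∈ S, finrank F (comp A f) / f.natDegree = m f := fun f hf => by
    rw [← count_charpoly hS hann hf, Nat.mul_div_cancel _ (hS f hf).1.natDegree_pos, hm, hch]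
  have hsub : (normalizedFactors (x : Matrix (Fin n) (Fin n) F).charpoly).toFinset ⊆ S := by
    intro f hf
    have h := Multiset.mem_toFinset.1 hf
    rw [hch] at h
    have hi := irreducible_of_normalized_factor _ h
    have hfm : f.Monic := by
      rw [← normalize_normalized_factor _ h]; exact Polynomial.monic_normalize hi.ne_zero
    by_contra hfS
    obtain ⟨a, b, hab⟩ := IsCoprime.prod_right (s := fun g : F[X] => g) (t := S)
      (fun g hg => coprime_of_ne hi hfm (hS g hg).1 (hS g hg).2 (fun e => hfS (e ▸ hg)))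
    refine not_injective_of_dvd_charpoly hi (dvd_of_mem_normalizedFactors h) ?_
    intro u v huv
    have key : ∀ w : Fin n → F, w = Polynomial.aeval A a (Polynomial.aeval A f w) := fun w => by
      conv_lhs => rw [show w = Polynomial.aeval A (a * f + b * ∏ g ∈ S, g) w by rw [hab, map_one]; rfl]
      rw [map_add, map_mul, map_mul, hann, mul_zero, add_zero, Module.End.mul_apply]
    rw [key u, key v, huv]
  have hsum : ∑ f ∈ S, m f * f.natDegree = n := by
    have h0 : (x : Matrix (Fin n) (Fin n) F).charpoly ≠ 0 := (Matrix.charpoly_monic _).ne_zero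
    have h1 := natDegree_eq_of_degree_eq (degree_eq_degree_of_associated (prod_normalizedFactors h0))
    rw [Matrix.charpoly_natDegree_eq_dim, Fintype.card_fin,
      natDegree_multiset_prod _ (zero_notMem_normalizedFactors _), Finset.sum_multiset_map_count] at h1
    simp only [smul_eq_mul] at h1
    rw [← h1]
    refine (Finset.sum_subset hsub fun f _ hf => ?_).symm
    rw [show m f = 0 from
      Multiset.count_eq_zero.2 fun h => hf (Multiset.mem_toFinset.2 h), zero_mul]
  rw [character_eq hn x, chainSum_eq hS hann ⊤ stable_top top_ne_bot, wgt]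
  rw [show (-1 : ℚ) ^ (n - 1) * -(∏ f ∈ S, SpUniCount.weight ((Fintype.card F : ℚ) ^ f.natDegree)
      (finrank F ((⊤ : Submodule F (Fin n → F)) ⊓ comp A f : Submodule F (Fin n → F)) / f.natDegree)) =
      ∏ f ∈ S, ((-1 : ℚ) ^ ((f.natDegree - 1) * m f) * (Fintype.card F : ℚ) ^ (f.natDegree * m f * (m f - 1) / 2)) by
    have e : (-1 : ℚ) ^ (n - 1) * -1 = ∏ f ∈ S, (-1 : ℚ) ^ (m f * f.natDegree) := by
      rw [Finset.prod_pow_eq_pow_sum, hsum, ← pow_succ, Nat.sub_add_cancel hn]
    rw [mul_neg, ← neg_mul, ← mul_neg_one ((-1 : ℚ) ^ (n - 1)), e, ← Finset.prod_mul_distrib]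
    refine Finset.prod_congr rfl fun f hf => ?_
    rw [top_inf_eq, hcount f hf, SpUniCount.weight, ← mul_assoc, ← pow_add, ← pow_mul]
    obtain ⟨d, hd⟩ := Nat.exists_eq_succ_of_ne_zero (hS f hf).1.natDegree_pos.ne'
    rw [hd, Nat.succ_eq_add_one]
    congr 1
    · rw [show m f * (d + 1) + m f = (d + 1 - 1) * m f + 2 * m f by rw [Nat.add_sub_cancel]; ring, pow_add,
        pow_mul (-1 : ℚ) 2, neg_one_sq, one_pow, mul_one]
    · rw [Nat.choose_two_right, mul_assoc, Nat.mul_div_assoc _ (Nat.two_dvd_mul_sub_one (m f))]]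
  rw [Rat.cast_prod, ← Finset.prod_subset hsub ?_]
  · refine Finset.prod_congr rfl fun f _ => ?_
    push_cast
    rfl
  · intro f _ hf
    rw [show m f = 0 from Multiset.count_eq_zero.2 fun h => hf (Multiset.mem_toFinset.2 h)]
    simp

end CfsgLib.Classical.StGL
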