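import Cfsg.Agent.Lib.Classical.SteinbergGL.Semisimple

/-!
# Weights of invariant subspaces and characteristic polynomials
-/

set_option autoImplicit false
set_option linter.unusedSectionVars false
set_option linter.style.haveILetI false

open Module Polynomial UniqueFactorizationMonoid Finset
open CfsgLib.Classical.SpUniCount (weight sum_weight)

namespace CfsgLib.Classical.StGL

variable {F : Type*} [Field F] {V : Type*} [AddCommGroup V] [Module F V] [FiniteDimensional F V]
variable {A : Module.End F V}

theorem not_injective_of_dvd_charpoly {g : F[X]} (hg : Irreducible g) (h : g ∣ A.charpoly) :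
    ¬ Function.Injective (Polynomial.aeval A g) := by
  classical
  intro hinj
  haveI : Fact (Irreducible g) := ⟨hg⟩
  set b := Module.finBasis F V
  set M := LinearMap.toMatrixAlgEquiv b A
  have hM : M.charpoly = A.charpoly := LinearMap.charpoly_toMatrix A b
  have hunit : IsUnit (Polynomial.aeval M g) := by
    rw [Polynomial.aeval_algHom_apply]
    exact ((Module.End.isUnit_iff _).2 ⟨hinj, LinearMap.injective_iff_surjective.1 hinj⟩).map _
  set L := AdjoinRoot g
  set ι : Matrix _ _ F →ₐ[F] Matrix _ _ L := (Algebra.ofId F L).mapMatrix (m := Fin (finrank F V))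
  set M' := ι M with hM'
  have hunit' : IsUnit (Polynomial.aeval M' g) := by
    rw [hM', Polynomial.aeval_algHom_apply]
    exact hunit.map ι
  have hroot : (Matrix.scalar _ (AdjoinRoot.root g) - M').det = 0 := by
    rw [← Matrix.eval_charpoly]
    show (M.map (algebraMap F L)).charpoly.eval (AdjoinRoot.root g) = 0
    rw [Matrix.charpoly_map, hM, Polynomial.eval_map_algebraMap, AdjoinRoot.aeval_eq, AdjoinRoot.mk_eq_zero]
    exact h
  obtain ⟨v, hv0, hv⟩ := Matrix.exists_mulVec_eq_zero_iff.2 hroot
  have hev : M'.mulVec v = AdjoinRoot.root g • v := by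
    rw [Matrix.sub_mulVec, sub_eq_zero] at hv
    rw [← hv]
    ext j
    simp [Matrix.mulVec_diagonal]
  have hpow : ∀ k, (M' ^ k).mulVec v = AdjoinRoot.root g ^ k • v := by
    intro k
    induction k with
    | zero => simp
    | succ k ih => rw [pow_succ, ← Matrix.mulVec_mulVec, hev, Matrix.mulVec_smul, ih, smul_smul, pow_succ, mul_comm]
  have hall : ∀ P : F[X], (Polynomial.aeval M' P).mulVec v = Polynomial.aeval (AdjoinRoot.root g) P • v := by
    intro P
    induction P using Polynomial.induction_on' with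
    | add P Q hP hQ => rw [map_add, Matrix.add_mulVec, hP, hQ, map_add, add_smul]
    | monomial k c =>
      rw [aeval_monomial, aeval_monomial, ← Matrix.mulVec_mulVec, hpow, Matrix.algebraMap_eq_diagonal]
      ext j
      simp [Matrix.mulVec_diagonal, mul_assoc, AdjoinRoot.algebraMap_eq, L]
  have hz := hall g
  rw [AdjoinRoot.aeval_eq, AdjoinRoot.mk_self, zero_smul] at hz
  obtain ⟨u, hu⟩ := hunit'
  refine hv0 ?_
  rw [← Matrix.one_mulVec v, ← u.inv_mul, ← Matrix.mulVec_mulVec, hu, hz, Matrix.mulVec_zero]

theorem coprime_of_ne {f g : F[X]} (hf : Irreducible f) (hfm : f.Monic) (hg : Irreducible g) (hgm : g.Monic)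
    (h : f ≠ g) : IsCoprime f g := by
  rcases (hf.coprime_iff_not_dvd (n := g)) with ⟨-, h2⟩
  exact h2 fun hd => h (eq_of_monic_of_associated hfm hgm ((hf.associated_of_dvd hg) hd))

variable {S : Finset F[X]}

/-- The weight of a stable subspace. -/
noncomputable def wgt [Fintype F] (A : Module.End F V) (S : Finset F[X]) (W : Submodule F V) : ℚ :=
  ∏ f ∈ S, weight ((Fintype.card F : ℚ) ^ f.natDegree) (finrank F (W ⊓ comp A f : Submodule F V) / f.natDegree)

variable (hS : ∀ f ∈ S, Irreducible f ∧ f.Monic) (hann : Polynomial.aeval A (∏ f ∈ S, f) = 0)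
include hS

theorem coprime_erase [DecidableEq F[X]] {f : F[X]} (hf : f ∈ S) : IsCoprime f (∏ g ∈ S.erase f, g) :=
  IsCoprime.prod_right fun g hg =>
    coprime_of_ne (hS f hf).1 (hS f hf).2 (hS g (mem_of_mem_erase hg)).1 (hS g (mem_of_mem_erase hg)).2
      (ne_of_mem_erase hg).symm

include hann

theorem exists_inf_ne_bot {W : Submodule F V} (hW : Stable A W) (hne : W ≠ ⊥) :
    ∃ f ∈ S, W ⊓ comp A f ≠ ⊥ := by
  classical
  obtain ⟨w, hw, hw0⟩ := Submodule.exists_mem_ne_zero_of_ne_bot hne
  have key : ∀ T : Finset F[X], T ⊆ S → ∀ w ∈ W, w ≠ 0 → Polynomial.aeval A (∏ f ∈ T, f) w = 0 →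
      ∃ f ∈ S, W ⊓ comp A f ≠ ⊥ := by
    intro T
    induction T using Finset.induction with
    | empty =>
      intro _ w _ hw0 h
      rw [prod_empty, map_one, Module.End.one_apply] at h
      exact absurd h hw0
    | @insert f T hf ih =>
      intro hTS w hw hw0 h
      rw [prod_insert hf, map_mul, Module.End.mul_apply] at h
      by_cases hv : Polynomial.aeval A (∏ g ∈ T, g) w = 0
      · exact ih ((subset_insert _ _).trans hTS) w hw hw0 hv
      · exact ⟨f, hTS (mem_insert_self _ _), fun e => hv ((Submodule.eq_bot_iff _).1 e _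
          ⟨hW.aeval _ hw, LinearMap.mem_ker.2 h⟩)⟩
  exact key S subset_rfl w hw hw0 (by rw [hann, LinearMap.zero_apply])

variable [Fintype F] [Fintype (Submodule F V)]

theorem sum_wgt_eq_zero [DecidablePred (Stable A)]
    [DecidableRel ((· ≤ ·) : Submodule F V → Submodule F V → Prop)] {W : Submodule F V} (hW : Stable A W)
    (hne : W ≠ ⊥) :
    ∑ M ∈ Finset.univ.filter (fun M : Submodule F V => Stable A M ∧ M ≤ W), wgt A S M = 0 := by
  classical
  obtain ⟨f, hf, hfne⟩ := exists_inf_ne_bot hS hann hW hne
  set g := ∏ h ∈ S.erase f, h with hg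
  have hcop := coprime_erase hS hf
  have hfg : Polynomial.aeval A (f * g) = 0 := by rw [hg, Finset.mul_prod_erase S (fun h => h) hf, hann]
  have hsplit : ∀ M : Submodule F V, Stable A M → (M ⊓ comp A f) ⊔ (M ⊓ comp A g) = M := fun M hM =>
    hM.eq_sup hcop fun w _ => by rw [hfg, LinearMap.zero_apply]
  have hdis := disjoint_comp (A := A) hcop
  set P₁ := Finset.univ.filter (fun U : Submodule F V => Stable A U ∧ U ≤ W ⊓ comp A f)
  set P₂ := Finset.univ.filter (fun U : Submodule F V => Stable A U ∧ U ≤ W ⊓ comp A g)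
  have hf1 : ∀ U U' : Submodule F V, U ≤ comp A f → U' ≤ comp A g → (U ⊔ U') ⊓ comp A f = U := by
    intro U U' hU hU'
    rw [sup_inf_assoc_of_le U' hU, (Disjoint.mono_left hU' hdis.symm).eq_bot, sup_bot_eq]
  have hf2 : ∀ U U' : Submodule F V, U ≤ comp A f → U' ≤ comp A g → (U ⊔ U') ⊓ comp A g = U' := by
    intro U U' hU hU'
    rw [sup_comm, sup_inf_assoc_of_le U hU', (Disjoint.mono_left hU hdis).eq_bot, sup_bot_eq]
  have hbij : ∑ M ∈ Finset.univ.filter (fun M : Submodule F V => Stable A M ∧ M ≤ W), wgt A S M =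
      ∑ x ∈ P₁ ×ˢ P₂, wgt A S (x.1 ⊔ x.2) := by
    refine Finset.sum_bij' (fun M _ => (M ⊓ comp A f, M ⊓ comp A g)) (fun x _ => x.1 ⊔ x.2) ?_ ?_ ?_ ?_ ?_
    · intro M hM
      obtain ⟨-, hMs, hMW⟩ := Finset.mem_filter.1 hM
      exact Finset.mem_product.2 ⟨Finset.mem_filter.2 ⟨Finset.mem_univ _, hMs.inf (stable_comp f),
        inf_le_inf_right _ hMW⟩, Finset.mem_filter.2 ⟨Finset.mem_univ _, hMs.inf (stable_comp g),
        inf_le_inf_right _ hMW⟩⟩
    · intro x hx
      obtain ⟨h1, h2⟩ := Finset.mem_product.1 hx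
      obtain ⟨-, h1s, h1le⟩ := Finset.mem_filter.1 h1
      obtain ⟨-, h2s, h2le⟩ := Finset.mem_filter.1 h2
      exact Finset.mem_filter.2 ⟨Finset.mem_univ _, h1s.sup h2s, sup_le (h1le.trans inf_le_left)
        (h2le.trans inf_le_left)⟩
    · intro M hM
      exact hsplit M (Finset.mem_filter.1 hM).2.1
    · intro x hx
      obtain ⟨h1, h2⟩ := Finset.mem_product.1 hx
      have a := (Finset.mem_filter.1 h1).2.2.trans inf_le_right
      have b := (Finset.mem_filter.1 h2).2.2.trans inf_le_right
      exact Prod.ext (hf1 _ _ a b) (hf2 _ _ a b)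
    · intro M hM
      exact congrArg (wgt A S) (hsplit M (Finset.mem_filter.1 hM).2.1).symm
  let rest : Submodule F V → ℚ := fun U' => ∏ h ∈ S.erase f,
    weight ((Fintype.card F : ℚ) ^ h.natDegree) (finrank F (U' ⊓ comp A h : Submodule F V) / h.natDegree)
  have hmul : ∀ x ∈ P₁ ×ˢ P₂, wgt A S (x.1 ⊔ x.2) =
      weight ((Fintype.card F : ℚ) ^ f.natDegree) (finrank F x.1 / f.natDegree) * rest x.2 := by
    intro x hx
    obtain ⟨h1, h2⟩ := Finset.mem_product.1 hx
    have a := (Finset.mem_filter.1 h1).2.2.trans inf_le_right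
    have b := (Finset.mem_filter.1 h2).2.2.trans inf_le_right
    rw [wgt, ← Finset.mul_prod_erase S _ hf, hf1 _ _ a b]
    congr 1
    refine Finset.prod_congr rfl fun h hh => ?_
    have hle : comp A h ≤ comp A g := comp_le_of_dvd (Finset.dvd_prod_of_mem (fun h => h) hh)
    rw [show (x.1 ⊔ x.2) ⊓ comp A h = ((x.1 ⊔ x.2) ⊓ comp A g) ⊓ comp A h by
      rw [inf_assoc, inf_eq_right.2 hle], hf2 _ _ a b]
  rw [hbij, Finset.sum_congr rfl hmul, Finset.sum_product, Finset.sum_comm]
  refine Finset.sum_eq_zero fun U' _ => ?_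
  dsimp only
  rw [← Finset.sum_mul, sum_weight_stable (hS f hf).1 (hW.inf (stable_comp f)) inf_le_right hfne, zero_mul]

theorem count_charpoly [DecidableEq F] {f : F[X]} (hf : f ∈ S) :
    (normalizedFactors A.charpoly).count f * f.natDegree = finrank F (comp A f) := by
  classical
  set g := ∏ h ∈ S.erase f, h with hg
  have hcop := coprime_erase hS hf
  have hfg : Polynomial.aeval A (f * g) = 0 := by rw [hg, Finset.mul_prod_erase S (fun h => h) hf, hann]
  have hc : IsCompl (comp A f) (comp A g) := by
    refine ⟨disjoint_comp hcop, codisjoint_iff.2 ?_⟩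
    have := stable_top.eq_sup (A := A) (W := ⊤) hcop (fun w _ => by rw [hfg, LinearMap.zero_apply])
    rwa [top_inf_eq, top_inf_eq] at this
  set e := Submodule.prodEquivOfIsCompl _ _ hc
  set A₁ := A.restrict (stable_comp (A := A) f)
  set A₂ := A.restrict (stable_comp (A := A) g)
  have hconj : e.conj (A₁.prodMap A₂) = A := by
    apply LinearMap.ext
    intro v
    obtain ⟨x, rfl⟩ := e.surjective v
    rw [LinearEquiv.conj_apply, LinearMap.comp_apply, LinearMap.comp_apply, LinearEquiv.coe_coe, LinearEquiv.coe_coe,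
      e.symm_apply_apply]
    simp [e, A₁, A₂, Submodule.coe_prodEquivOfIsCompl']
    rfl
  have hmul : A.charpoly = A₁.charpoly * A₂.charpoly := by
    conv_lhs => rw [← hconj]
    rw [LinearEquiv.charpoly_conj, LinearMap.charpoly_prodMap]
  have hfi := (hS f hf).1
  have hfm := (hS f hf).2
  have happ : ∀ (W : Submodule F V) (hs : Stable A W) (P : F[X]) (u : W),
      ((Polynomial.aeval (A.restrict hs) P u : W) : V) = Polynomial.aeval A P (u : V) := by
    intro W hs P
    induction P using Polynomial.induction_on with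
    | C c => intro u; simp [aeval_C]
    | add P Q hP hQ => intro u; simp [hP, hQ]
    | monomial m c _ =>
      intro u
      rw [map_mul, map_mul, aeval_C, aeval_C, map_pow, map_pow, aeval_X, aeval_X, Module.End.mul_apply,
        Module.End.mul_apply, Module.algebraMap_end_apply, Module.algebraMap_end_apply, Submodule.coe_smul]
      congr 1
      generalize m + 1 = k
      induction k with
      | zero => rfl
      | succ k ih => rw [pow_succ', pow_succ', Module.End.mul_apply, Module.End.mul_apply, ← ih]; rfl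
  have h1 : ∀ h ∈ normalizedFactors A₁.charpoly, h = f := by
    intro h hh
    by_contra hne
    have hi := irreducible_of_normalized_factor _ hh
    have hm : h.Monic := by
      rw [← normalize_normalized_factor _ hh]
      exact Polynomial.monic_normalize hi.ne_zero
    apply not_injective_of_dvd_charpoly hi (dvd_of_mem_normalizedFactors hh)
    obtain ⟨a, b, hab⟩ := coprime_of_ne hi hm hfi hfm hne
    intro u v huv
    apply Subtype.ext
    have key : ∀ w : comp A f, (w : V) = Polynomial.aeval A (a * h) (w : V) := fun w => by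
      have h0 : Polynomial.aeval A (b * f) (w : V) = 0 := by
        rw [map_mul, Module.End.mul_apply, LinearMap.mem_ker.1 w.2, map_zero]
      conv_lhs => rw [show (w : V) = Polynomial.aeval A (a * h + b * f) (w : V) by rw [hab, map_one]; rfl]
      rw [map_add, LinearMap.add_apply, h0, add_zero]
    rw [key u, key v, map_mul, Module.End.mul_apply, Module.End.mul_apply, ← happ _ (stable_comp f) h u,
      ← happ _ (stable_comp f) h v]
    exact congrArg (fun z : comp A f => Polynomial.aeval A a (z : V)) huv
  have h2 : f ∉ normalizedFactors A₂.charpoly := by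
    intro hh
    apply not_injective_of_dvd_charpoly hfi (dvd_of_mem_normalizedFactors hh)
    rw [← LinearMap.ker_eq_bot, Submodule.eq_bot_iff]
    intro u hu
    apply Subtype.ext
    have h0 : Polynomial.aeval A f (u : V) = 0 := by
      rw [← happ _ (stable_comp g) f u, LinearMap.mem_ker.1 hu]; rfl
    exact Submodule.disjoint_def.1 hc.1 _ (LinearMap.mem_ker.2 h0) u.2
  have hrep := Multiset.eq_replicate_card.2 h1
  have h3 : f ^ Multiset.card (normalizedFactors A₁.charpoly) = A₁.charpoly := by
    refine eq_of_monic_of_associated (hfm.pow _) (LinearMap.charpoly_monic _) ?_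
    have := prod_normalizedFactors (a := A₁.charpoly) (LinearMap.charpoly_monic _).ne_zero
    rw [hrep, Multiset.prod_replicate] at this
    exact this
  have h4 : (normalizedFactors A₁.charpoly).count f = Multiset.card (normalizedFactors A₁.charpoly) := by
    conv_lhs => rw [hrep]
    exact Multiset.count_replicate_self _ _
  rw [hmul, normalizedFactors_mul (LinearMap.charpoly_monic _).ne_zero (LinearMap.charpoly_monic _).ne_zero,
    Multiset.count_add, Multiset.count_eq_zero_of_notMem h2, add_zero, h4, ← LinearMap.charpoly_natDegree A₁]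
  conv_rhs => rw [← h3, natDegree_pow]

end CfsgLib.Classical.StGL
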