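import Cfsg.Agent.Lib.Classical.SpUnipotentCount.Main

/-!
# The Möbius function of the lattice of invariant subspaces of a semisimple endomorphism
-/

set_option autoImplicit false
set_option linter.unusedSectionVars false
set_option linter.style.haveILetI false

open Module Polynomial UniqueFactorizationMonoid
open CfsgLib.Classical.SpUniCount (weight sum_weight)

namespace CfsgLib.Classical.StGL

variable {F : Type*} [Field F] {V : Type*} [AddCommGroup V] [Module F V]

/-- The subspace `W` is mapped into itself by `A`. -/
def Stable (A : Module.End F V) (W : Submodule F V) : Prop := ∀ w ∈ W, A w ∈ W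

/-- The kernel of `f(A)`. -/
noncomputable def comp (A : Module.End F V) (f : F[X]) : Submodule F V := LinearMap.ker (aeval A f)

variable {A : Module.End F V}

theorem Stable.aeval {W : Submodule F V} (h : Stable A W) (P : F[X]) {w : V} (hw : w ∈ W) :
    Polynomial.aeval A P w ∈ W := by
  induction P using Polynomial.induction_on generalizing w with
  | C c => simpa [aeval_C] using W.smul_mem c hw
  | add P Q hP hQ => rw [map_add, LinearMap.add_apply]; exact W.add_mem (hP hw) (hQ hw)
  | monomial m c _ => 
    rw [map_mul, aeval_C, map_pow, aeval_X, Module.End.mul_apply]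
    have : ∀ k, (A ^ k) w ∈ W := fun k => by
      induction k with
      | zero => exact hw
      | succ k ih => rw [pow_succ', Module.End.mul_apply]; exact h _ ih
    simpa using W.smul_mem c (this (m + 1))

theorem stable_comp (f : F[X]) : Stable A (comp A f) := fun w hw => by
  rw [comp, LinearMap.mem_ker] at hw ⊢
  have e : Polynomial.aeval A f * A = A * Polynomial.aeval A f := by
    conv_lhs => arg 2; rw [← aeval_X (R := F) A]
    conv_rhs => arg 1; rw [← aeval_X (R := F) A]
    rw [← map_mul, ← map_mul, mul_comm]
  have := LinearMap.congr_fun e w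
  simp only [Module.End.mul_apply] at this
  rw [this, hw, map_zero]

theorem comp_le_of_dvd {f g : F[X]} (h : f ∣ g) : comp A f ≤ comp A g := by
  obtain ⟨c, rfl⟩ := h
  intro w hw
  rw [comp, LinearMap.mem_ker] at hw ⊢
  rw [mul_comm, map_mul, Module.End.mul_apply, hw, map_zero]

theorem Stable.inf {W W' : Submodule F V} (h : Stable A W) (h' : Stable A W') : Stable A (W ⊓ W') :=
  fun w hw => ⟨h w hw.1, h' w hw.2⟩

theorem Stable.sup {W W' : Submodule F V} (h : Stable A W) (h' : Stable A W') : Stable A (W ⊔ W') :=
  fun w hw => by
  obtain ⟨a, ha, b, hb, rfl⟩ := Submodule.mem_sup.1 hw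
  rw [map_add]
  exact Submodule.add_mem_sup (h a ha) (h' b hb)

theorem stable_bot : Stable A ⊥ := fun w hw => by
  rw [Submodule.mem_bot] at hw ⊢
  rw [hw, map_zero]

theorem stable_top : Stable A ⊤ := fun _ _ => trivial

/-- A stable subspace splits along a coprime factorization of an annihilating polynomial. -/
theorem Stable.eq_sup {W : Submodule F V} (h : Stable A W) {f g : F[X]} (hfg : IsCoprime f g)
    (hW : ∀ w ∈ W, Polynomial.aeval A (f * g) w = 0) : (W ⊓ comp A f) ⊔ (W ⊓ comp A g) = W := by
  refine le_antisymm (sup_le inf_le_left inf_le_left) fun w hw => ?_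
  obtain ⟨a, b, hab⟩ := hfg
  rw [show w = Polynomial.aeval A (b * g) w + Polynomial.aeval A (a * f) w by
    rw [← LinearMap.add_apply, ← map_add, add_comm, hab, map_one]; rfl]
  refine Submodule.add_mem_sup ⟨h.aeval _ hw, ?_⟩ ⟨h.aeval _ hw, ?_⟩
  · rw [comp, SetLike.mem_coe, LinearMap.mem_ker, ← Module.End.mul_apply, ← map_mul,
      show f * (b * g) = b * (f * g) by ring, map_mul, Module.End.mul_apply, hW w hw, map_zero]
  · rw [comp, SetLike.mem_coe, LinearMap.mem_ker, ← Module.End.mul_apply, ← map_mul,
      show g * (a * f) = a * (f * g) by ring, map_mul, Module.End.mul_apply, hW w hw, map_zero]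

theorem disjoint_comp {f g : F[X]} (hfg : IsCoprime f g) : Disjoint (comp A f) (comp A g) :=
  Polynomial.disjoint_ker_aeval_of_isCoprime A hfg

variable [Fintype F] [FiniteDimensional F V]

/-- The sum of the weights of the stable subspaces below a nonzero stable subspace killed by an irreducible
polynomial vanishes. -/
theorem sum_weight_stable [Fintype (Submodule F V)] [DecidablePred (Stable A)] {f : F[X]}
    (hf : Irreducible f) {U₀ : Submodule F V} (hs : Stable A U₀) (hle : U₀ ≤ comp A f) (hne : U₀ ≠ ⊥)
    [DecidableRel ((· ≤ ·) : Submodule F V → Submodule F V → Prop)] :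
    ∑ U ∈ Finset.univ.filter (fun U : Submodule F V => Stable A U ∧ U ≤ U₀),
      weight ((Fintype.card F : ℚ) ^ f.natDegree) (finrank F U / f.natDegree) = 0 := by
  classical
  haveI : Fact (Irreducible f) := ⟨hf⟩
  have hA' : ∀ (P : F[X]) (u : U₀), ((Polynomial.aeval (A.restrict hs) P u : U₀) : V) =
      Polynomial.aeval A P (u : V) := by
    intro P
    induction P using Polynomial.induction_on with
    | C c => intro u; simp [aeval_C]
    | add P Q hP hQ => intro u; simp [hP, hQ]
    | monomial m c _ =>
      intro u
      rw [map_mul, map_mul, aeval_C, aeval_C, map_pow, map_pow, aeval_X, aeval_X, Module.End.mul_apply,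
        Module.End.mul_apply, Module.algebraMap_end_apply, Module.algebraMap_end_apply, Submodule.coe_smul]
      congr 1
      generalize m + 1 = k
      induction k with
      | zero => rfl
      | succ k ih => rw [pow_succ', pow_succ', Module.End.mul_apply, Module.End.mul_apply, ← ih]; rfl
  have hann : Polynomial.aeval (A.restrict hs) f = 0 := LinearMap.ext fun u => Subtype.ext (by
    rw [hA']
    exact hle u.2)
  set K := AdjoinRoot f
  let φ : K →+* Module.End F U₀ :=
    Ideal.Quotient.lift (Ideal.span {f}) (Polynomial.aeval (A.restrict hs)).toRingHom (fun P hP => by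
      obtain ⟨c, rfl⟩ := Ideal.mem_span_singleton'.1 hP
      show Polynomial.aeval (A.restrict hs) (c * f) = 0
      rw [map_mul, hann, mul_zero])
  letI : Module K U₀ := Module.compHom U₀ φ
  have hsmul : ∀ (a : K) (u : U₀), a • u = φ a u := fun _ _ => rfl
  have hφ : ∀ P : F[X], φ (AdjoinRoot.mk f P) = Polynomial.aeval (A.restrict hs) P := fun _ => rfl
  haveI : IsScalarTower F K U₀ := ⟨fun c a u => by
    induction a using AdjoinRoot.induction_on with
    | ih P =>
      rw [hsmul, hsmul, AdjoinRoot.smul_mk, hφ, hφ, map_smul, LinearMap.smul_apply]⟩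
  haveI : Module.Finite K U₀ := Module.Finite.of_restrictScalars_finite F K U₀
  haveI : Finite K := by
    haveI : Module.Finite F K := (AdjoinRoot.powerBasis hf.ne_zero).finite
    exact Module.finite_of_finite F
  letI : Fintype K := Fintype.ofFinite K
  haveI : Finite U₀ := Module.finite_of_finite F
  letI : Fintype (Submodule K U₀) := Fintype.ofFinite _
  have hd : finrank F K = f.natDegree := by
    rw [(AdjoinRoot.powerBasis hf.ne_zero).finrank, AdjoinRoot.powerBasis_dim]
  have hcard : (Fintype.card K : ℚ) = (Fintype.card F : ℚ) ^ f.natDegree := by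
    haveI : Module.Finite F K := (AdjoinRoot.powerBasis hf.ne_zero).finite
    rw [Module.card_eq_pow_finrank (K := F) (V := K), hd]
    push_cast
    rfl
  have hne' : finrank K U₀ ≠ 0 := by
    intro h
    have h2 := Module.finrank_mul_finrank F K U₀
    rw [h, mul_zero] at h2
    exact hne (Submodule.finrank_eq_zero.1 h2.symm)
  rw [← sum_weight (F := K) (K := U₀) hne']
  symm
  refine Finset.sum_bij (fun U _ => (U.restrictScalars F).map U₀.subtype) ?_ ?_ ?_ ?_
  · intro U _
    refine Finset.mem_filter.2 ⟨Finset.mem_univ _, ?_, Submodule.map_subtype_le _ _⟩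
    rintro _ ⟨u, hu, rfl⟩
    refine ⟨(AdjoinRoot.root f) • u, U.smul_mem _ hu, ?_⟩
    rw [hsmul, ← AdjoinRoot.mk_X, hφ, aeval_X]
    rfl
  · intro U _ U' _ h
    refine Submodule.restrictScalars_injective F K U₀ ?_
    exact Submodule.map_injective_of_injective U₀.injective_subtype h
  · intro M hM
    obtain ⟨-, hMs, hMle⟩ := Finset.mem_filter.1 hM
    refine ⟨{ carrier := {u | (u : V) ∈ M}
              add_mem' := fun ha hb => M.add_mem ha hb
              zero_mem' := M.zero_mem
              smul_mem' := fun a u hu => ?_ }, Finset.mem_univ _, ?_⟩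
    · induction a using AdjoinRoot.induction_on with
      | ih P =>
        show ((AdjoinRoot.mk f P • u : U₀) : V) ∈ M
        rw [hsmul, hφ, hA']
        exact hMs.aeval P hu
    · ext v
      constructor
      · rintro ⟨u, hu, rfl⟩
        exact hu
      · exact fun hv => ⟨⟨v, hMle hv⟩, hv, rfl⟩
  · intro U _
    have h2 := Module.finrank_mul_finrank F K U
    rw [hd] at h2
    have h3 : finrank F ((U.restrictScalars F).map U₀.subtype) = finrank F U :=
      (Submodule.equivMapOfInjective _ U₀.injective_subtype _).finrank_eq.symm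
    rw [h3, ← h2, Nat.mul_div_cancel_left _ hf.natDegree_pos, hcard]

end CfsgLib.Classical.StGL
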